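import Mathlib

/-!
# Element orders of `PGL (2, q)`

The orders are the divisors of `p`, `q - 1` and `q + 1`.
-/

set_option autoImplicit false

open Matrix

namespace CfsgLib.PGLSpectrum

variable {F : Type*} [Field F]

/-- Cayley-Hamilton for `2 × 2` matrices. -/
theorem sq_eq (A : Matrix (Fin 2) (Fin 2) F) : A * A = A.trace • A - A.det • 1 := by
  ext i j
  fin_cases i <;> fin_cases j <;>
    simp [mul_apply, Fin.sum_univ_two, trace_fin_two, det_fin_two] <;> ring

/-- The determinant-trace discriminant. -/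
def disc (A : Matrix (Fin 2) (Fin 2) F) : F := A.trace ^ 2 - 4 * A.det

theorem twice_sub_trace_sq (A : Matrix (Fin 2) (Fin 2) F) :
    ((2 : F) • A - A.trace • 1) * ((2 : F) • A - A.trace • 1) = disc A • 1 := by
  ext i j
  fin_cases i <;> fin_cases j <;>
    simp [mul_apply, Fin.sum_univ_two, trace_fin_two, det_fin_two, disc] <;> ring

theorem two_smul_pow {p n : ℕ} [Fact p.Prime] [CharP F p] (hodd : Odd (p ^ n))
    (A : Matrix (Fin 2) (Fin 2) F) :
    ((2 : F) • A) ^ p ^ n =
      (disc A) ^ ((p ^ n - 1) / 2) • ((2 : F) • A - A.trace • 1) + A.trace ^ p ^ n • 1 := by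
  set B := (2 : F) • A - A.trace • (1 : Matrix (Fin 2) (Fin 2) F) with hB
  have hA : (2 : F) • A = B + A.trace • 1 := by rw [hB, sub_add_cancel]
  rw [hA, add_pow_char_pow_of_commute (p := p) (h := (Commute.one_right B).smul_right _),
    _root_.smul_pow, one_pow]
  congr 1
  obtain ⟨m, hm⟩ := hodd
  rw [hm, show (2 * m + 1 - 1) / 2 = m by omega, pow_succ, pow_mul, sq, hB, twice_sub_trace_sq,
    _root_.smul_pow, one_pow, smul_mul_assoc, one_mul]

variable [Fintype F]

theorem natCard_gt_one : 1 < Fintype.card F := Fintype.one_lt_card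

/-- In odd characteristic: `A ^ p` is scalar, or the discriminant is a nonzero square and
`A ^ (q - 1) = 1`, or it is a non-square and `A ^ (q + 1)` is the scalar `det A`. -/
theorem pow_cases_odd {p : ℕ} [Fact p.Prime] [CharP F p] (hp : p ≠ 2)
    (A : Matrix (Fin 2) (Fin 2) F) (hdet : A.det ≠ 0) :
    (disc A = 0 ∧ ∃ c : F, A ^ p = c • 1) ∨
    (disc A ≠ 0 ∧ IsSquare (disc A) ∧ A ^ (Fintype.card F - 1) = 1) ∨
    (¬ IsSquare (disc A) ∧ A ^ (Fintype.card F + 1) = A.det • 1) := by
  classical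
  obtain ⟨n, hpp, hn⟩ := FiniteField.card F p
  have hodd : Odd p := hpp.odd_of_ne_two hp
  have h2 : (2 : F) ≠ 0 := Ring.two_ne_zero (by rw [ringChar.eq F p]; exact hp)
  by_cases hD : disc A = 0
  · refine Or.inl ⟨hD, ?_⟩
    have h := two_smul_pow (p := p) (n := 1) (by rw [pow_one]; exact hodd) A
    have hne : (p - 1) / 2 ≠ 0 := by
      obtain ⟨m, rfl⟩ := hodd
      have := hpp.two_le
      omega
    rw [pow_one, hD, zero_pow hne, zero_smul, zero_add, _root_.smul_pow] at h
    refine ⟨((2 : F) ^ p)⁻¹ * A.trace ^ p, ?_⟩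
    rw [← smul_smul, ← h, inv_smul_smul₀ (pow_ne_zero _ h2)]
  right
  have hq : Odd (Fintype.card F) := hn ▸ hodd.pow
  have h := two_smul_pow (p := p) (n := n) (hn ▸ hq) A
  rw [← hn, FiniteField.pow_card] at h
  obtain ⟨m, hm⟩ := hq
  rw [show (Fintype.card F - 1) / 2 = Fintype.card F / 2 by omega, _root_.smul_pow,
    FiniteField.pow_card] at h
  by_cases hsq : IsSquare (disc A)
  · refine Or.inl ⟨hD, hsq, ?_⟩
    rw [(FiniteField.isSquare_iff (by rw [ringChar.eq F p]; exact hp) hD).mp hsq, one_smul,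
      sub_add_cancel] at h
    have h1 : A ^ Fintype.card F = A := smul_right_injective _ h2 h
    have hu : IsUnit A := (Matrix.isUnit_iff_isUnit_det A).mpr hdet.isUnit
    rw [← Nat.sub_add_cancel natCard_gt_one.le, pow_succ] at h1
    exact hu.mul_right_cancel (h1.trans (one_mul A).symm)
  · refine Or.inr ⟨hsq, ?_⟩
    have hneg : disc A ^ (Fintype.card F / 2) = -1 :=
      (FiniteField.pow_dichotomy (by rw [ringChar.eq F p]; exact hp) hD).resolve_left fun e =>
        hsq ((FiniteField.isSquare_iff (by rw [ringChar.eq F p]; exact hp) hD).mpr e)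
    rw [hneg, neg_one_smul, neg_sub] at h
    have h1 : A ^ Fintype.card F = A.trace • 1 - A := by
      apply smul_right_injective _ h2
      show (2 : F) • A ^ Fintype.card F = (2 : F) • (A.trace • 1 - A)
      rw [h, smul_sub, two_smul F (A.trace • (1 : Matrix (Fin 2) (Fin 2) F))]
      abel
    rw [pow_succ, h1, sub_mul, smul_mul_assoc, one_mul, sq_eq, sub_sub_cancel]

/-- The general statement, any characteristic. -/
theorem pow_scalar_cases {p : ℕ} [Fact p.Prime] [CharP F p] (hF : p = 2 → Fintype.card F = 2)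
    (A : Matrix (Fin 2) (Fin 2) F) (hdet : A.det ≠ 0) :
    ∃ k, (k = p ∨ k = Fintype.card F - 1 ∨ k = Fintype.card F + 1) ∧ ∃ c : F, A ^ k = c • 1 := by
  by_cases hp : p = 2
  · have h2 := hF hp
    have hall : ∀ x : F, x = 0 ∨ x = 1 := fun x => by
      have h := FiniteField.pow_card x
      rw [h2, sq] at h
      rcases eq_or_ne x 0 with hx | hx
      · exact Or.inl hx
      · exact Or.inr (mul_left_cancel₀ hx (by rw [h, mul_one]))
    rcases hall A.trace with ht | ht
    · refine ⟨p, Or.inl rfl, -A.det, ?_⟩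
      rw [hp, sq, sq_eq, ht, zero_smul, zero_sub, neg_smul]
    · have hd : A.det = 1 := (hall A.det).resolve_left hdet
      refine ⟨Fintype.card F + 1, Or.inr (Or.inr rfl), -1, ?_⟩
      rw [h2, pow_succ, sq, sq_eq, ht, hd, one_smul, one_smul, sub_mul, one_mul, sq_eq, ht, hd,
        one_smul, one_smul, neg_smul, one_smul]
      abel
  · rcases pow_cases_odd hp A hdet with ⟨-, h⟩ | ⟨-, -, h⟩ | ⟨-, h⟩
    · exact ⟨p, Or.inl rfl, h⟩
    · exact ⟨_, Or.inr (Or.inl rfl), 1, by rw [h, one_smul]⟩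
    · exact ⟨_, Or.inr (Or.inr rfl), _, h⟩

/-- Multiplication by an element of the quadratic extension, as a matrix. -/
theorem exists_regular (F : Type*) [Field F] [Fintype F] :
    ∃ (L : Type) (_ : Monoid L) (f : L →* Matrix (Fin 2) (Fin 2) F) (z : L),
      orderOf z = Fintype.card F ^ 2 - 1 ∧
      (∀ k, (∃ c : F, f (z ^ k) = c • 1) → z ^ (k * (Fintype.card F - 1)) = 1) ∧
      (∀ k : ℕ, (f (z ^ k)).det = (f z).det ^ k) ∧
      (f (z ^ (Fintype.card F - 1))).det = 1 ∧
      (∀ k (c : F), (f (z ^ k) - c • 1).det = 0 → z ^ (k * (Fintype.card F - 1)) = 1) ∧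
      (∀ k, z ^ k = 1 ↔ f (z ^ k) = 1) ∧ (f z).det ≠ 0 := by
  classical
  obtain ⟨p, hp⟩ := CharP.exists F
  obtain ⟨n, hpp, hn⟩ := FiniteField.card F p
  haveI : Fact p.Prime := ⟨hpp⟩
  set q := Fintype.card F with hqdef
  let K := FiniteField.Extension F p 2
  haveI : Finite K := Module.finite_of_finite F
  letI : Fintype K := Fintype.ofFinite K
  have hK : Fintype.card K = q ^ 2 := by
    rw [← Nat.card_eq_fintype_card, FiniteField.natCard_extension, Nat.card_eq_fintype_card]
  let b : Module.Basis (Fin 2) F K :=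
    Module.finBasisOfFinrankEq F K (FiniteField.finrank_extension F p 2)
  obtain ⟨u, hu⟩ := IsCyclic.exists_ofOrder_eq_natCard (α := Kˣ)
  rw [Nat.card_units, Nat.card_eq_fintype_card, hK] at hu
  -- transport to a monoid in `Type`
  obtain ⟨e⟩ : Nonempty (Multiplicative (ZMod (Nat.card Kˣ)) ≃* Kˣ) := ⟨zmodCyclicMulEquiv inferInstance⟩
  let g : Kˣ →* Matrix (Fin 2) (Fin 2) F :=
    (Algebra.leftMulMatrix b).toRingHom.toMonoidHom.comp (Units.coeHom K)
  have hg : ∀ y : Kˣ, g y = Algebra.leftMulMatrix b (y : K) := fun y => rfl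
  have hpow : ∀ (y : Kˣ) (c : F), (y : K) = algebraMap F K c → y ^ (q - 1) = 1 := fun y c h => by
    apply Units.ext
    rw [Units.val_pow_eq_pow_val, h, ← map_pow, Units.val_one]
    have hc : c ≠ 0 := fun h0 => by rw [h0, map_zero] at h; exact y.ne_zero h
    rw [hqdef, FiniteField.pow_card_sub_one_eq_one c hc, map_one]
  refine ⟨Multiplicative (ZMod (Nat.card Kˣ)), inferInstance, g.comp e.toMonoidHom, e.symm u, ?_, ?_, ?_,
    ?_, ?_, ?_, ?_⟩
  · rw [MulEquiv.orderOf_eq, hu]
  · rintro k ⟨c, hc⟩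
    rw [MonoidHom.comp_apply, MulEquiv.coe_toMonoidHom, map_pow, MulEquiv.apply_symm_apply, hg,
      ← Algebra.algebraMap_eq_smul_one,
      ← AlgHom.commutes (Algebra.leftMulMatrix b) c] at hc
    apply e.injective
    rw [map_pow, MulEquiv.apply_symm_apply, map_one, pow_mul]
    exact hpow _ c (Algebra.leftMulMatrix_injective b hc)
  · intro k
    rw [map_pow, det_pow]
  · rw [MonoidHom.comp_apply, MulEquiv.coe_toMonoidHom, map_pow, MulEquiv.apply_symm_apply, hg,
      ← Algebra.norm_eq_matrix_det]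
    apply (algebraMap F K).injective
    rw [FiniteField.algebraMap_norm_eq_pow, map_one, Nat.card_eq_fintype_card, Nat.card_eq_fintype_card,
      hK, ← hqdef, Units.val_pow_eq_pow_val, ← pow_mul]
    have hd : q - 1 ∣ q ^ 2 - 1 := ⟨q + 1, by rw [mul_comm, ← Nat.sq_sub_sq, one_pow]⟩
    rw [Nat.mul_div_cancel' hd, ← hu, ← Units.val_pow_eq_pow_val, pow_orderOf_eq_one, Units.val_one]
  · intro k c h
    rw [MonoidHom.comp_apply, MulEquiv.coe_toMonoidHom, map_pow, MulEquiv.apply_symm_apply, hg,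
      ← Algebra.algebraMap_eq_smul_one, ← AlgHom.commutes (Algebra.leftMulMatrix b) c, ← map_sub,
      ← Algebra.norm_eq_matrix_det, Algebra.norm_eq_zero_iff, sub_eq_zero] at h
    apply e.injective
    rw [map_pow, MulEquiv.apply_symm_apply, map_one, pow_mul]
    exact hpow _ c h
  · intro k
    refine ⟨fun h => by rw [h, map_one], fun h => ?_⟩
    rw [MonoidHom.comp_apply, MulEquiv.coe_toMonoidHom, hg, ← map_one (Algebra.leftMulMatrix b)] at h
    exact e.injective (by rw [map_one]; exact Units.ext (Algebra.leftMulMatrix_injective b h))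
  · rw [MonoidHom.comp_apply, MulEquiv.coe_toMonoidHom, MulEquiv.apply_symm_apply, hg,
      ← Algebra.norm_eq_matrix_det, Ne, Algebra.norm_eq_zero_iff]
    exact u.ne_zero

theorem mk_pow_eq_one_iff {n : Type*} [Fintype n] [DecidableEq n] (g : GL n F) (k : ℕ) :
    (QuotientGroup.mk g : GL n F ⧸ Subgroup.center (GL n F)) ^ k = 1 ↔
      ∃ c : F, (g : Matrix n n F) ^ k = c • 1 := by
  rw [← QuotientGroup.mk_pow, QuotientGroup.eq_one_iff, GeneralLinearGroup.mem_center_iff_val_eq_scalar]
  simp only [scalar_apply, ← smul_one_eq_diagonal, Units.val_pow_eq_pow_val, Set.mem_range, eq_comm]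

/-- The element orders of `PGL (2, q)`. -/
theorem range_orderOf (p : ℕ) [Fact p.Prime] [CharP F p] (hF : p = 2 → Fintype.card F = 2) :
    Set.range (orderOf : GL (Fin 2) F ⧸ Subgroup.center (GL (Fin 2) F) → ℕ) =
      {s | s ∣ p ∨ s ∣ Fintype.card F - 1 ∨ s ∣ Fintype.card F + 1} := by
  classical
  have hp : p.Prime := Fact.out
  have hdown : ∀ (g : GL (Fin 2) F ⧸ Subgroup.center (GL (Fin 2) F)) {k s : ℕ},
      k ∣ orderOf g → s ∣ k → s ∈ Set.range
        (orderOf : GL (Fin 2) F ⧸ Subgroup.center (GL (Fin 2) F) → ℕ) := fun g k s hk hs =>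
    ⟨g ^ (orderOf g / s), orderOf_pow_orderOf_div (orderOf_pos g).ne' (hs.trans hk)⟩
  ext s
  simp only [Set.mem_ofPred_eq]
  constructor
  · rintro ⟨x, rfl⟩
    obtain ⟨g, rfl⟩ := QuotientGroup.mk_surjective x
    obtain ⟨k, hk, c, hc⟩ := pow_scalar_cases hF (g : Matrix (Fin 2) (Fin 2) F)
      ((Matrix.isUnit_iff_isUnit_det _).mp g.isUnit).ne_zero
    have := orderOf_dvd_of_pow_eq_one ((mk_pow_eq_one_iff g k).mpr ⟨c, hc⟩)
    rcases hk with rfl | rfl | rfl
    · exact Or.inl this
    · exact Or.inr (Or.inl this)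
    · exact Or.inr (Or.inr this)
  · rintro (h | h | h)
    · set U : Matrix (Fin 2) (Fin 2) F := !![1, 1; 0, 1] with hU
      have hUk : ∀ k : ℕ, U ^ k = !![1, (k : F); 0, 1] := by
        intro k
        induction k with
        | zero => ext i j; fin_cases i <;> fin_cases j <;> simp
        | succ k ih =>
          rw [pow_succ, ih, hU]
          ext i j
          fin_cases i <;> fin_cases j <;> simp [mul_apply, Fin.sum_univ_two, add_comm]
      let g : GL (Fin 2) F := GeneralLinearGroup.mkOfDetNeZero U (by simp [hU, det_fin_two])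
      refine hdown (QuotientGroup.mk g) ?_ h
      obtain ⟨c, hc⟩ := (mk_pow_eq_one_iff g _).mp (pow_orderOf_eq_one _)
      rw [← CharP.cast_eq_zero_iff F p]
      change U ^ _ = _ at hc
      rw [hUk] at hc
      simpa using congrFun (congrFun hc 0) 1
    · obtain ⟨w, hw⟩ := IsCyclic.exists_ofOrder_eq_natCard (α := Fˣ)
      rw [Nat.card_units, Nat.card_eq_fintype_card] at hw
      set D : Matrix (Fin 2) (Fin 2) F := diagonal ![(w : F), 1] with hD
      let g : GL (Fin 2) F := GeneralLinearGroup.mkOfDetNeZero D (by simp [hD])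
      refine hdown (QuotientGroup.mk g) ?_ h
      obtain ⟨c, hc⟩ := (mk_pow_eq_one_iff g _).mp (pow_orderOf_eq_one _)
      change D ^ _ = _ at hc
      rw [hD, diagonal_pow, smul_one_eq_diagonal] at hc
      have h0 := congrFun (diagonal_injective hc) 0
      have h1 := congrFun (diagonal_injective hc) 1
      simp at h0 h1
      rw [← hw]
      refine orderOf_dvd_of_pow_eq_one (Units.ext ?_)
      rw [Units.val_pow_eq_pow_val, h0, ← h1, Units.val_one]
    · obtain ⟨L, hL, f, z, hz, hscal, -, -, -, -, hne⟩ := exists_regular F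
      let g : GL (Fin 2) F := GeneralLinearGroup.mkOfDetNeZero (f z) hne
      refine hdown (QuotientGroup.mk g) ?_ h
      set k := orderOf (QuotientGroup.mk g : GL (Fin 2) F ⧸ Subgroup.center (GL (Fin 2) F))
      obtain ⟨c, hc⟩ := (mk_pow_eq_one_iff g k).mp (pow_orderOf_eq_one _)
      change f z ^ k = _ at hc
      have h2 := orderOf_dvd_of_pow_eq_one (hscal k ⟨c, by rw [map_pow]; exact hc⟩)
      rw [hz, show Fintype.card F ^ 2 - 1 = (Fintype.card F + 1) * (Fintype.card F - 1) by
        rw [← Nat.sq_sub_sq, one_pow]] at h2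
      exact Nat.dvd_of_mul_dvd_mul_right (by have := natCard_gt_one (F := F); omega) h2

end CfsgLib.PGLSpectrum
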