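import Mathlib

/-!
# Doubling element orders by a cuspidal module in characteristic two

For a finite group `G` and a prime `p`, the functions `Fin N × G → ZMod 2` whose sums over all
cosets `⟨u⟩ g`, `u` of order `p`, vanish form a module `V` on which elements of order `p` have zero
norm; so in `V ⋊ G` they keep order `p`, while any other element of `G` has its order at most
doubled.
-/

set_option autoImplicit false

open Finset

namespace CfsgLib.PGLSpectrum

variable (G : Type) [Group G]

/-- Functions with vanishing sums along all cosets of subgroups of order `p`. -/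
def cusp (p N : ℕ) : AddSubgroup (Fin N × G → ZMod 2) where
  carrier := {f | ∀ u : G, orderOf u = p → ∀ i g, ∑ s ∈ range p, f (i, u ^ s * g) = 0}
  add_mem' {f h} hf hh u hu i g := by
    simp only [Pi.add_apply, sum_add_distrib, hf u hu i g, hh u hu i g, add_zero]
  zero_mem' := fun u _ i g => by simp
  neg_mem' {f} hf u hu i g := by
    simp only [Pi.neg_apply, sum_neg_distrib, hf u hu i g, neg_zero]

variable {G}

theorem left_mem_cusp {p N : ℕ} {f : Fin N × G → ZMod 2} (hf : f ∈ cusp G p N) (h : G) :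
    (fun x : Fin N × G => f (x.1, h⁻¹ * x.2)) ∈ cusp G p N := fun u hu i g => by
  have h1 : orderOf (h⁻¹ * u * h) = p := by
    rw [show h⁻¹ * u * h = MulAut.conj h⁻¹ u by simp, MulEquiv.orderOf_eq, hu]
  refine (Finset.sum_congr rfl fun s _ => ?_).trans (hf _ h1 i (h⁻¹ * g))
  show f (i, h⁻¹ * (u ^ s * g)) = f (i, (h⁻¹ * u * h) ^ s * (h⁻¹ * g))
  congr 2
  rw [show h⁻¹ * u * h = h⁻¹ * u * h⁻¹⁻¹ by rw [inv_inv], conj_pow, inv_inv]
  group

variable (G)

/-- Left translation on `cusp`. -/
def cuspAct (p N : ℕ) : G →* MulAut (Multiplicative (cusp G p N)) where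
  toFun h := AddEquiv.toMultiplicative
    { toFun := fun f => ⟨fun x => (f : Fin N × G → ZMod 2) (x.1, h⁻¹ * x.2), left_mem_cusp f.2 h⟩
      invFun := fun f => ⟨fun x => (f : Fin N × G → ZMod 2) (x.1, h⁻¹⁻¹ * x.2), left_mem_cusp f.2 h⁻¹⟩
      left_inv := fun f => Subtype.ext (funext fun x => by simp [← mul_assoc])
      right_inv := fun f => Subtype.ext (funext fun x => by simp [← mul_assoc])
      map_add' := fun f k => rfl }
  map_one' := by
    refine MulEquiv.ext fun f => ?_
    exact Multiplicative.toAdd.injective (Subtype.ext (funext fun x => by simp))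
  map_mul' h k := by
    refine MulEquiv.ext fun f => ?_
    exact Multiplicative.toAdd.injective (Subtype.ext (funext fun x => by simp [mul_assoc]))

variable {G}

theorem cuspAct_apply {p N : ℕ} (h : G) (f : Multiplicative (cusp G p N)) (x : Fin N × G) :
    ((cuspAct G p N h f).toAdd : Fin N × G → ZMod 2) x =
      (f.toAdd : Fin N × G → ZMod 2) (x.1, h⁻¹ * x.2) := rfl

/-- The left component of a power in a semidirect product. -/
theorem semidirect_pow_left {V : Type*} [CommGroup V] (φ : G →* MulAut V) (x : V ⋊[φ] G) (k : ℕ) :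
    (x ^ k).left = ∏ i ∈ range k, φ (x.right ^ i) x.left ∧ (x ^ k).right = x.right ^ k := by
  induction k with
  | zero => simp
  | succ k ih =>
    rw [pow_succ, SemidirectProduct.mul_left, SemidirectProduct.mul_right, ih.1, ih.2,
      prod_range_succ, pow_succ]
    exact ⟨rfl, rfl⟩

/-- The element orders of `cusp ⋊ G`. -/
theorem cover_spectrum [Finite G] {p m₁ m₂ : ℕ} (hp : p.Prime) (N : ℕ)
    (hord : ∀ g : G, orderOf g = p ∨ orderOf g ∣ m₁ ∨ orderOf g ∣ m₂)
    (u : G) (hu : orderOf u = p)
    (φ : G → ZMod 2) (hφ : ∀ v : G, orderOf v = p → ∀ g, ∑ s ∈ range p, φ (v ^ s * g) = 0)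
    (hreal : ∀ m, m = m₁ ∨ m = m₂ → ∃ x g : G, orderOf x = m ∧
      ∑ i ∈ range m, φ ((x ^ i)⁻¹ * g) = 1) :
    ∃ (H : Type) (_ : Group H) (_ : Fintype H), 2 ^ N ≤ Fintype.card H ∧
      Set.range (orderOf : H → ℕ) = {s | s ∣ p ∨ s ∣ 2 * m₁ ∨ s ∣ 2 * m₂} := by
  classical
  let V := Multiplicative (cusp G p (N + 1))
  let H := V ⋊[cuspAct G p (N + 1)] G
  haveI : Finite H := Finite.of_equiv (V × G)
    SemidirectProduct.equivProd.symm
  letI : Fintype H := Fintype.ofFinite H
  have hleft : ∀ (x : H) k i g, ((x ^ k).left.toAdd : Fin (N + 1) × G → ZMod 2) (i, g) =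
      ∑ j ∈ range k, (x.left.toAdd : Fin (N + 1) × G → ZMod 2) (i, (x.right ^ j)⁻¹ * g) := by
    intro x k i g
    rw [(semidirect_pow_left (cuspAct G p (N + 1)) x k).1, toAdd_prod, AddSubgroup.val_finsetSum,
      Finset.sum_apply]
    rfl
  have hone : ∀ x : H, x.right = 1 → (∀ i g, (x.left.toAdd : Fin (N + 1) × G → ZMod 2) (i, g) = 0) →
      x = 1 := fun x hr hl =>
    SemidirectProduct.ext (Multiplicative.toAdd.injective (Subtype.ext (funext fun y => hl y.1 y.2))) hr
  refine ⟨H, inferInstance, inferInstance, ?_, ?_⟩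
  · obtain ⟨x, g, -, hx⟩ := hreal m₁ (Or.inl rfl)
    obtain ⟨i, -, hi⟩ := exists_ne_zero_of_sum_ne_zero (hx.trans_ne one_ne_zero)
    set g₀ := (x ^ i)⁻¹ * g
    let ι : (Fin (N + 1) → ZMod 2) → H := fun c =>
      ⟨Multiplicative.ofAdd ⟨fun y => c y.1 * φ y.2, fun v hv j k => by
        show ∑ s ∈ range p, c j * φ (v ^ s * k) = 0
        rw [← mul_sum, hφ v hv k, mul_zero]⟩, 1⟩
    have hι : Function.Injective ι := fun c d e => funext fun j => by
      have h2 := congrArg (fun y : H => (y.left.toAdd : Fin (N + 1) × G → ZMod 2) (j, g₀)) e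
      exact mul_right_cancel₀ hi h2
    have := Fintype.card_le_of_injective ι hι
    rw [Fintype.card_fun, ZMod.card, Fintype.card_fin] at this
    exact (Nat.pow_le_pow_right (by norm_num) (Nat.le_succ N)).trans this
  have hdown : ∀ (h : H) {k s : ℕ}, k ∣ orderOf h → s ∣ k → s ∈ Set.range (orderOf : H → ℕ) :=
    fun h k s hk hs =>
    ⟨h ^ (orderOf h / s), orderOf_pow_orderOf_div (orderOf_pos h).ne' (hs.trans hk)⟩
  have hup : ∀ h : H, h ^ (2 * orderOf h.right) = 1 := by
    intro h
    rw [mul_comm, pow_mul]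
    have hr : (h ^ orderOf h.right).right = 1 := by
      rw [(semidirect_pow_left _ h _).2, pow_orderOf_eq_one]
    refine hone _ (by rw [(semidirect_pow_left _ _ _).2, hr, one_pow]) fun i g => ?_
    rw [hleft, sum_range_succ, sum_range_one, hr]
    simp only [one_pow, inv_one, one_mul]
    exact CharTwo.add_self_eq_zero _
  ext s
  simp only [Set.mem_ofPred_eq]
  constructor
  · rintro ⟨h, rfl⟩
    rcases hord h.right with hg | hg | hg
    · refine Or.inl (orderOf_dvd_of_pow_eq_one ?_)
      refine hone _ ((semidirect_pow_left _ h _).2.trans (by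
        have h1 := pow_orderOf_eq_one h.right
        rwa [hg] at h1)) fun i g => ?_
      rw [hleft]
      simp only [← inv_pow]
      exact h.left.toAdd.2 _ (by rw [orderOf_inv, hg]) i g
    · exact Or.inr (Or.inl ((orderOf_dvd_of_pow_eq_one (hup h)).trans (mul_dvd_mul_left 2 hg)))
    · exact Or.inr (Or.inr ((orderOf_dvd_of_pow_eq_one (hup h)).trans (mul_dvd_mul_left 2 hg)))
  · have key : ∀ m, m = m₁ ∨ m = m₂ → ∃ h : H, 2 * m ∣ orderOf h := by
      intro m hm
      obtain ⟨x, g, hx, hsum⟩ := hreal m hm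
      let f : cusp G p (N + 1) := ⟨fun y => φ y.2, fun v hv j k => hφ v hv k⟩
      let h : H := ⟨Multiplicative.ofAdd f, x⟩
      refine ⟨h, ?_⟩
      obtain ⟨j, hj⟩ : m ∣ orderOf h := hx ▸ orderOf_map_dvd SemidirectProduct.rightHom h
      obtain ⟨e, he⟩ : orderOf h ∣ m * 2 := by
        rw [mul_comm, ← hx]; exact orderOf_dvd_of_pow_eq_one (hup h)
      have hmpos : 0 < m := hx ▸ orderOf_pos x
      have hje : j ∣ 2 := ⟨e, Nat.eq_of_mul_eq_mul_left hmpos (by rw [he, hj, mul_assoc])⟩
      rcases (Nat.dvd_prime Nat.prime_two).mp hje with rfl | rfl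
      · exfalso
        have h1 : h ^ m = 1 := by
          conv_lhs => rw [show m = orderOf h by rw [hj, mul_one]]
          exact pow_orderOf_eq_one h
        have h2 := hleft h m 0 g
        rw [h1] at h2
        exact one_ne_zero (hsum.symm.trans h2.symm)
      · rw [hj, mul_comm]
    rintro (h | h | h)
    · let x : H := ⟨1, u⟩
      refine hdown x ?_ h
      have h1 := orderOf_map_dvd SemidirectProduct.rightHom x
      rwa [show SemidirectProduct.rightHom x = u from rfl, hu] at h1
    · obtain ⟨x, hx⟩ := key m₁ (Or.inl rfl)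
      exact hdown x hx h
    · obtain ⟨x, hx⟩ := key m₂ (Or.inr rfl)
      exact hdown x hx h

end CfsgLib.PGLSpectrum
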