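import Mathlib
import Cfsg.Agent.PGLSpectrum.Basic
import Cfsg.Agent.PGLSpectrum.Cover

/-!
# Large groups with the element orders of `PGL (2, p)`

Over `PSL (2, p)` the indicator of the traces `± t₀`, `t₀ ^ 2 - 4` a non-square, is a cuspidal
function with odd sum over a suitable coset of each maximal torus.
-/

set_option autoImplicit false

open Matrix Finset

namespace CfsgLib.PGLSpectrum

variable {p : ℕ} [Fact p.Prime]

local notation "SL₂" => Matrix.SpecialLinearGroup (Fin 2) (ZMod p)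
local notation "Mat₂" => Matrix (Fin 2) (Fin 2) (ZMod p)
local notation "PSL₂" =>
  Matrix.SpecialLinearGroup (Fin 2) (ZMod p) ⧸ Subgroup.center (Matrix.SpecialLinearGroup (Fin 2) (ZMod p))

theorem sl_mk_pow_iff (A : SL₂) (k : ℕ) :
    (QuotientGroup.mk A : PSL₂) ^ k = 1 ↔ ∃ c : ZMod p, (A : Mat₂) ^ k = c • 1 := by
  rw [← QuotientGroup.mk_pow, QuotientGroup.eq_one_iff, Matrix.SpecialLinearGroup.mem_center_iff]
  constructor
  · rintro ⟨r, -, hr⟩
    exact ⟨r, by rw [← Matrix.SpecialLinearGroup.coe_pow, ← hr, scalar_apply, smul_one_eq_diagonal]⟩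
  · rintro ⟨c, hc⟩
    refine ⟨c, ?_, by rw [Matrix.SpecialLinearGroup.coe_pow, hc, scalar_apply, smul_one_eq_diagonal]⟩
    have h := congrArg det hc
    rw [det_pow, Matrix.SpecialLinearGroup.det_coe, one_pow, det_smul, det_one, mul_one] at h
    exact h.symm

theorem scalar_of_sq_one (hp2 : p ≠ 2) (M : Mat₂) (hdet : M.det = 1) (h : M * M = 1) :
    ∃ c : ZMod p, M = c • 1 := by
  have h2 : (2 : ZMod p) ≠ 0 := Ring.two_ne_zero (by rw [ringChar.eq (ZMod p) p]; exact hp2)
  rw [sq_eq, hdet, one_smul, sub_eq_iff_eq_add] at h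
  have ht : M.trace ≠ 0 := fun h0 => by
    rw [h0, zero_smul] at h
    have := congrFun (congrFun h 0) 0
    simp only [Matrix.zero_apply, Matrix.add_apply, one_apply_eq] at this
    exact h2 (by rw [this]; norm_num)
  exact ⟨M.trace⁻¹ * 2, by rw [← smul_smul, two_smul, ← h, inv_smul_smul₀ ht]⟩

/-- The order of an element of `PSL (2, p)`. -/
theorem psl_order_cases (hp2 : p ≠ 2) (A : SL₂) :
    (disc (A : Mat₂) = 0 ∧ orderOf (QuotientGroup.mk A : PSL₂) ∣ p) ∨
    (disc (A : Mat₂) ≠ 0 ∧ IsSquare (disc (A : Mat₂)) ∧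
      orderOf (QuotientGroup.mk A : PSL₂) ∣ (p - 1) / 2) ∨
    (¬ IsSquare (disc (A : Mat₂)) ∧ orderOf (QuotientGroup.mk A : PSL₂) ∣ (p + 1) / 2) := by
  have hodd : Odd p := (Fact.out : p.Prime).odd_of_ne_two hp2
  have hA : (A : Mat₂).det = 1 := A.det_coe
  obtain ⟨m, hm⟩ := hodd
  rcases pow_cases_odd hp2 (A : Mat₂) (by rw [hA]; exact one_ne_zero) with ⟨h0, c, h⟩ | ⟨h0, h1, h⟩ |
      ⟨h1, h⟩
  · exact Or.inl ⟨h0, orderOf_dvd_of_pow_eq_one ((sl_mk_pow_iff A p).mpr ⟨c, h⟩)⟩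
  · refine Or.inr (Or.inl ⟨h0, h1, orderOf_dvd_of_pow_eq_one ((sl_mk_pow_iff A _).mpr ?_)⟩)
    refine scalar_of_sq_one hp2 _ (by rw [det_pow, hA, one_pow]) ?_
    rw [← pow_add, ← h, ZMod.card, show (p - 1) / 2 + (p - 1) / 2 = p - 1 by omega]
  · refine Or.inr (Or.inr ⟨h1, orderOf_dvd_of_pow_eq_one ((sl_mk_pow_iff A _).mpr ?_)⟩)
    refine scalar_of_sq_one hp2 _ (by rw [det_pow, hA, one_pow]) ?_
    rw [← pow_add, show (p + 1) / 2 + (p + 1) / 2 = p + 1 by omega]
    rw [ZMod.card, hA, one_smul] at h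
    exact h

open Classical in
/-- The indicator of the traces `± t`. -/
noncomputable def traceInd (t : ZMod p) (g : PSL₂) : ZMod 2 :=
  if ∃ A : SL₂, QuotientGroup.mk A = g ∧ (A : Mat₂).trace = t then 1 else 0

theorem traceInd_mk (t : ZMod p) (A : SL₂) :
    traceInd t (QuotientGroup.mk A : PSL₂) =
      if (A : Mat₂).trace = t ∨ (A : Mat₂).trace = -t then 1 else 0 := by
  classical
  unfold traceInd
  refine if_congr ⟨?_, ?_⟩ rfl rfl
  · rintro ⟨B, hB, hBt⟩
    have h1 : A⁻¹ * B ∈ Subgroup.center SL₂ := QuotientGroup.eq.mp hB.symm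
    obtain ⟨r, hr, hr'⟩ := Matrix.SpecialLinearGroup.mem_center_iff.mp h1
    have h2 : (B : Mat₂) = r • (A : Mat₂) := by
      have h3 : ((A * (A⁻¹ * B) : SL₂) : Mat₂) = (B : Mat₂) := by rw [mul_inv_cancel_left]
      rw [← h3, Matrix.SpecialLinearGroup.coe_mul, ← hr', scalar_apply, ← smul_one_eq_diagonal,
        mul_smul_comm, mul_one]
    rw [Fintype.card_fin, sq_eq_one_iff] at hr
    rw [h2, trace_smul, smul_eq_mul] at hBt
    rcases hr with rfl | rfl
    · exact Or.inl (by rw [← hBt, one_mul])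
    · exact Or.inr (by rw [← hBt, neg_one_mul, neg_neg])
  · rintro (h | h)
    · exact ⟨A, rfl, h⟩
    · let ζ : SL₂ := ⟨(-1 : ZMod p) • 1, by rw [det_smul, det_one, Fintype.card_fin]; norm_num⟩
      have hζ : ζ ∈ Subgroup.center SL₂ :=
        Matrix.SpecialLinearGroup.mem_center_iff.mpr ⟨-1, by rw [Fintype.card_fin]; norm_num,
          by rw [scalar_apply, ← smul_one_eq_diagonal]⟩
      refine ⟨ζ * A, by rw [QuotientGroup.mk_mul, (QuotientGroup.eq_one_iff ζ).mpr hζ, one_mul], ?_⟩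
      rw [Matrix.SpecialLinearGroup.coe_mul]
      show (((-1 : ZMod p) • (1 : Mat₂)) * (A : Mat₂)).trace = t
      rw [smul_mul_assoc, one_mul, trace_smul, h, smul_eq_mul]
      ring

/-- Elements of order `p` have unipotent lifts. -/
theorem exists_unipotent_lift (hp2 : p ≠ 2) {v : PSL₂} (hv : orderOf v = p) :
    ∃ U : SL₂, QuotientGroup.mk U = v ∧ (U : Mat₂).trace = 2 ∧ ∀ c : ZMod p, (U : Mat₂) ≠ c • 1 := by
  obtain ⟨U, rfl⟩ := QuotientGroup.mk_surjective v
  have hp : p.Prime := Fact.out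
  have hp5 : 3 ≤ p := lt_of_le_of_ne hp.two_le (Ne.symm hp2)
  rcases psl_order_cases hp2 U with ⟨h0, -⟩ | ⟨-, -, h⟩ | ⟨-, h⟩
  rotate_left
  · rw [hv] at h
    have := Nat.le_of_dvd (by omega) h
    omega
  · rw [hv] at h
    have := Nat.le_of_dvd (by omega) h
    omega
  have hns : ∀ c : ZMod p, (U : Mat₂) ≠ c • 1 := fun c hc => by
    have := orderOf_dvd_of_pow_eq_one ((sl_mk_pow_iff U 1).mpr ⟨c, by rw [pow_one, hc]⟩)
    rw [hv, Nat.dvd_one] at this
    exact hp.ne_one this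
  have ht : ((U : Mat₂).trace - 2) * ((U : Mat₂).trace + 2) = 0 := by
    rw [disc, U.det_coe] at h0
    rw [← h0]
    ring
  rcases mul_eq_zero.mp ht with h | h
  · exact ⟨U, rfl, sub_eq_zero.mp h, hns⟩
  · have h1 : traceInd (2 : ZMod p) (QuotientGroup.mk U : PSL₂) = 1 := by
      rw [traceInd_mk, if_pos (Or.inr (eq_neg_of_add_eq_zero_left h))]
    classical
    unfold traceInd at h1
    split_ifs at h1 with hex
    · obtain ⟨B, hB, hBt⟩ := hex
      refine ⟨B, hB, hBt, fun c hc => ?_⟩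
      have := orderOf_dvd_of_pow_eq_one ((sl_mk_pow_iff B 1).mpr ⟨c, by rw [pow_one, hc]⟩)
      rw [hB, hv, Nat.dvd_one] at this
      exact hp.ne_one this
    · exact absurd h1 zero_ne_one

theorem sum_range_eq_univ {M : Type*} [AddCommMonoid M] (f : ZMod p → M) :
    ∑ s ∈ range p, f (s : ZMod p) = ∑ x : ZMod p, f x := by
  refine Finset.sum_nbij' (fun s => (s : ZMod p)) (fun x => x.val) (fun _ _ => mem_univ _)
    (fun x _ => mem_range.mpr x.val_lt) (fun s hs => ZMod.val_cast_of_lt (mem_range.mp hs))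
    (fun x _ => ZMod.natCast_zmod_val x) (fun _ _ => rfl)

/-- `traceInd t` is cuspidal when `t ^ 2 - 4` is a non-square. -/
theorem traceInd_cusp (hp2 : p ≠ 2) {t : ZMod p} (ht0 : t ≠ 0) (ht : ¬ IsSquare (t ^ 2 - 4))
    (v : PSL₂) (hv : orderOf v = p) (g : PSL₂) : ∑ s ∈ range p, traceInd t (v ^ s * g) = 0 := by
  classical
  obtain ⟨U, rfl, hUt, hUs⟩ := exists_unipotent_lift hp2 hv
  obtain ⟨A, rfl⟩ := QuotientGroup.mk_surjective g
  have h2 : (2 : ZMod p) ≠ 0 := Ring.two_ne_zero (by rw [ringChar.eq (ZMod p) p]; exact hp2)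
  set N := (U : Mat₂) - 1 with hN
  have hU1 : (U : Mat₂) = 1 + N := by rw [hN]; abel
  have hNN : N * N = 0 := by
    rw [hN, sub_mul, mul_sub, mul_one, one_mul, sq_eq, hUt, U.det_coe, one_smul, two_smul]
    abel
  have hUpow : ∀ s : ℕ, (U : Mat₂) ^ s = 1 + (s : ZMod p) • N := by
    intro s
    induction s with
    | zero => simp
    | succ s ih =>
      rw [pow_succ, ih, hU1, add_mul, one_mul, smul_mul_assoc, mul_add, hNN, mul_one, add_zero,
        Nat.cast_succ, add_smul, one_smul]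
      abel
  set c := (N * (A : Mat₂)).trace with hc
  set ind : ZMod p → ZMod 2 := fun x => if x = t ∨ x = -t then 1 else 0 with hind
  have hterm : ∀ s : ℕ, traceInd t ((QuotientGroup.mk U : PSL₂) ^ s * QuotientGroup.mk A) =
      ind ((A : Mat₂).trace + (s : ZMod p) * c) := by
    intro s
    rw [← QuotientGroup.mk_pow, ← QuotientGroup.mk_mul, traceInd_mk, Matrix.SpecialLinearGroup.coe_mul,
      Matrix.SpecialLinearGroup.coe_pow, hUpow, add_mul, one_mul, smul_mul_assoc, trace_add, trace_smul,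
      smul_eq_mul]
  rw [Finset.sum_congr rfl (fun s _ => hterm s),
    sum_range_eq_univ (fun x => ind ((A : Mat₂).trace + x * c))]
  rcases eq_or_ne c 0 with h0 | h0
  · -- `A` has an eigenvector fixed by `U`, so its trace is not `± t`
    simp only [h0, mul_zero, add_zero, sum_const, card_univ, ZMod.card]
    have hzero : ind (A : Mat₂).trace = 0 := by
      rw [hind]
      refine if_neg fun hor => ht ?_
      have hsq : (A : Mat₂).trace ^ 2 = t ^ 2 := by rcases hor with h | h <;> rw [h]; ring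
      rw [← hsq]
      have hd := A.det_coe
      have hUd := U.det_coe
      have hNc := hUs 1
      rw [det_fin_two] at hd hUd
      rw [hc, hN, trace_fin_two] at h0
      simp only [mul_apply, Fin.sum_univ_two, Matrix.sub_apply, one_apply_eq, ne_eq, Fin.isValue,
        one_apply_ne (show (0 : Fin 2) ≠ 1 by decide),
        one_apply_ne (show (1 : Fin 2) ≠ 0 by decide), sub_zero] at h0
      rw [trace_fin_two] at hUt
      generalize ha : (U : Mat₂) 0 0 = a at *
      generalize hb : (U : Mat₂) 0 1 = b at *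
      generalize hcc : (U : Mat₂) 1 0 = e at *
      generalize hdd : (U : Mat₂) 1 1 = d at *
      generalize hA00 : (A : Mat₂) 0 0 = A00 at *
      generalize hA01 : (A : Mat₂) 0 1 = A01 at *
      generalize hA10 : (A : Mat₂) 1 0 = A10 at *
      generalize hA11 : (A : Mat₂) 1 1 = A11 at *
      rw [trace_fin_two, hA00, hA11]
      have hd' : d = 2 - a := by rw [← hUt]; ring
      subst hd'
      rcases eq_or_ne b 0 with rfl | hb0
      · have ha1 : a = 1 := by
          have : (a - 1) ^ 2 = 0 := by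
            calc (a - 1) ^ 2 = 1 - (a * (2 - a) - 0 * e) := by ring
              _ = 0 := by rw [hUd]; ring
          exact sub_eq_zero.mp (pow_eq_zero_iff two_ne_zero |>.mp this)
        subst ha1
        have he : e ≠ 0 := fun he => hNc (by
          ext i j
          fin_cases i <;> fin_cases j <;> simp [ha, hb, hcc, hdd, he] <;> ring)
        have hA : A01 = 0 := (mul_eq_zero.mp (show e * A01 = 0 by rw [← h0]; ring)).resolve_left he
        subst hA
        exact ⟨A00 - A11, by rw [show (4 : ZMod p) = 4 * (A00 * A11 - 0 * A10) by rw [hd, mul_one]]; ring⟩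
      · refine ⟨A00 - A11 - 2 * ((a - 1) / b) * A01, ?_⟩
        have he : e = -(a - 1) ^ 2 / b := by
          rw [eq_div_iff hb0]
          calc e * b = a * (2 - a) - (a * (2 - a) - b * e) := by ring
            _ = -(a - 1) ^ 2 := by rw [hUd]; ring
        subst he
        have hA : A10 = ((a - 1) / b) ^ 2 * A01 + (a - 1) / b * (A11 - A00) := by
          field_simp at h0 ⊢
          linear_combination h0
        rw [show (4 : ZMod p) = 4 * (A00 * A11 - A01 * A10) by rw [hd, mul_one], hA]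
        ring
    rw [hzero, smul_zero]
  · rw [← Equiv.sum_comp ((Equiv.mulRight₀ c h0).trans (Equiv.addLeft (A : Mat₂).trace)).symm]
    have hsimp : ∀ x, ind ((A : Mat₂).trace +
        ((Equiv.mulRight₀ c h0).trans (Equiv.addLeft (A : Mat₂).trace)).symm x * c) = ind x := by
      intro x
      congr 1
      exact ((Equiv.mulRight₀ c h0).trans (Equiv.addLeft (A : Mat₂).trace)).apply_symm_apply x
    rw [Finset.sum_congr rfl (fun x _ => hsimp x), hind, Finset.sum_boole]
    have hcard : #{x : ZMod p | x = t ∨ x = -t} = 2 := by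
      rw [show ({x : ZMod p | x = t ∨ x = -t} : Finset (ZMod p)) = {t, -t} by ext x; simp]
      refine card_pair fun e => ht0 ?_
      exact (mul_eq_zero.mp (show 2 * t = 0 by rw [two_mul]; nth_rw 1 [e]; ring)).resolve_left h2
    rw [hcard]
    rfl

/-- A coset of a maximal torus meets the traces `± t` exactly once. -/
theorem exists_coset (hp2 : p ≠ 2) {t : ZMod p} (ht0 : t ≠ 0) (X : SL₂)
    (hb : (X : Mat₂) 0 1 ≠ 0) (hD : disc (X : Mat₂) ≠ 0) {m : ℕ}
    (hm : orderOf (QuotientGroup.mk X : PSL₂) = m) (hmp : Nat.Coprime m p) :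
    ∃ x g : PSL₂, orderOf x = m ∧ ∑ i ∈ range m, traceInd t ((x ^ i)⁻¹ * g) = 1 := by
  classical
  have h2 : (2 : ZMod p) ≠ 0 := Ring.two_ne_zero (by rw [ringChar.eq (ZMod p) p]; exact hp2)
  set a := (X : Mat₂) 0 0 with ha
  set b := (X : Mat₂) 0 1 with hb'
  set c := (X : Mat₂) 1 0 with hc
  set d := (X : Mat₂) 1 1 with hd
  set e := (a - d) / b with he
  set α := e ^ 2 / 4 + c / b with hα
  have h4 : (4 : ZMod p) ≠ 0 := by rw [show (4 : ZMod p) = 2 * 2 by ring]; exact mul_ne_zero h2 h2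
  have hα0 : α ≠ 0 := fun h => hD (by
    have : α * (4 * b ^ 2) = disc (X : Mat₂) := by
      rw [disc, trace_fin_two, det_fin_two, ← ha, ← hb', ← hc, ← hd, hα, he]
      field_simp
      ring
    rw [← this, h, zero_mul])
  obtain ⟨w, s, hws⟩ : ∃ w s : ZMod p, w ^ 2 - α * s ^ 2 = t ^ 2 / 4 - 1 := by
    obtain ⟨w, s, h⟩ := FiniteField.exists_root_sum_quadratic
      (f := Polynomial.X ^ 2 - Polynomial.C (t ^ 2 / 4 - 1)) (g := Polynomial.C (-α) * Polynomial.X ^ 2)
      (Polynomial.degree_X_pow_sub_C (by norm_num) _)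
      (Polynomial.degree_C_mul_X_pow 2 (neg_ne_zero.mpr hα0))
      (by rw [ZMod.card]; exact Nat.odd_iff.mp ((Fact.out : p.Prime).odd_of_ne_two hp2))
    refine ⟨w, s, ?_⟩
    simp only [Polynomial.eval_sub, Polynomial.eval_pow, Polynomial.eval_X, Polynomial.eval_C,
      Polynomial.eval_mul] at h
    linear_combination h
  set r := w + e * s / 2 with hr
  set u := -(e * r + c / b * s) with hu
  let A : SL₂ := ⟨!![t / 2 + r, s; u, t / 2 - r], by
    rw [det_fin_two_of, hu, hr]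
    rw [hα] at hws
    field_simp at hws ⊢
    linear_combination -hws⟩
  have hAm : (A : Mat₂) = !![t / 2 + r, s; u, t / 2 - r] := rfl
  have hA1 : (A : Mat₂).trace = t := by
    rw [hAm, trace_fin_two_of]
    field_simp
    ring
  have hA2 : ((X : Mat₂) * (A : Mat₂)).trace = t / 2 * (X : Mat₂).trace := by
    rw [hAm, trace_fin_two, trace_fin_two]
    simp only [mul_apply, Fin.sum_univ_two, of_apply, cons_val', cons_val_zero, cons_val_one,
      cons_val_fin_one, ← ha, ← hb', ← hc, ← hd]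
    rw [hu, he]
    field_simp
    ring
  have hlin : ∀ j : ℕ, ∃ x y : ZMod p, (X : Mat₂) ^ j = x • (X : Mat₂) + y • 1 := by
    intro j
    induction j with
    | zero => exact ⟨0, 1, by simp⟩
    | succ j ih =>
      obtain ⟨x, y, h⟩ := ih
      refine ⟨x * (X : Mat₂).trace + y, -x, ?_⟩
      rw [pow_succ, h, add_mul, smul_mul_assoc, sq_eq, X.det_coe, smul_mul_assoc, one_mul]
      module
  have htr : ∀ j : ℕ, ((X : Mat₂) ^ j * (A : Mat₂)).trace = t / 2 * ((X : Mat₂) ^ j).trace := by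
    intro j
    obtain ⟨x, y, h⟩ := hlin j
    rw [h, add_mul, smul_mul_assoc, smul_mul_assoc, one_mul, trace_add, trace_add, trace_smul,
      trace_smul, trace_smul, trace_smul, hA2, hA1, trace_one, Fintype.card_fin]
    simp only [smul_eq_mul, Nat.cast_ofNat]
    field_simp
  refine ⟨(QuotientGroup.mk X)⁻¹, QuotientGroup.mk A, by rw [orderOf_inv, hm], ?_⟩
  have hmpos : 0 < m := hm ▸ orderOf_pos _
  rw [Finset.sum_eq_single_of_mem 0 (mem_range.mpr hmpos)]
  · rw [pow_zero, inv_one, one_mul, traceInd_mk, if_pos (Or.inl hA1)]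
  · intro j hj hj0
    rw [inv_pow, inv_inv, ← QuotientGroup.mk_pow, ← QuotientGroup.mk_mul, traceInd_mk, if_neg]
    rw [Matrix.SpecialLinearGroup.coe_mul, Matrix.SpecialLinearGroup.coe_pow, htr]
    intro hor
    have hsq : ((X : Mat₂) ^ j).trace ^ 2 = 4 := by
      have h3 : (t / 2 * ((X : Mat₂) ^ j).trace) ^ 2 = t ^ 2 := by
        rcases hor with h | h <;> rw [h]; ring
      field_simp at h3
      linear_combination h3
    have hd0 : disc ((X ^ j : SL₂) : Mat₂) = 0 := by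
      rw [disc, (X ^ j).det_coe, Matrix.SpecialLinearGroup.coe_pow, hsq]
      ring
    rcases psl_order_cases hp2 (X ^ j) with ⟨-, h⟩ | ⟨h, -⟩ | ⟨h, -⟩
    · have h5 : (QuotientGroup.mk X : PSL₂) ^ (j * p) = 1 := by
        rw [pow_mul, ← QuotientGroup.mk_pow]
        exact orderOf_dvd_iff_pow_eq_one.mp h
      have h6 : m ∣ j := hmp.dvd_of_dvd_mul_right (hm ▸ orderOf_dvd_of_pow_eq_one h5)
      have := Nat.le_of_dvd (by omega) h6
      have := mem_range.mp hj
      omega
    · exact h hd0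
    · exact h (hd0 ▸ IsSquare.zero)

/-- Arbitrarily large groups with the spectrum of `PGL (2, p)`, `p ≥ 5`. -/
theorem exists_large_prime (hp5 : 5 ≤ p) (N : ℕ) :
    ∃ (H : Type) (_ : Group H) (_ : Fintype H), N < Fintype.card H ∧
      Set.range (orderOf : H → ℕ) = {s | s ∣ p ∨ s ∣ p - 1 ∨ s ∣ p + 1} := by
  classical
  have hp : p.Prime := Fact.out
  have hp2 : p ≠ 2 := by omega
  obtain ⟨k, hk⟩ := hp.odd_of_ne_two hp2
  have hcop : ∀ m, m ≠ 0 → m < p → Nat.Coprime m p := fun m h0 h =>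
    ((hp.coprime_iff_not_dvd).mpr fun hd => by
      have := Nat.le_of_dvd (by omega) hd; omega).symm
  -- the non-split torus
  obtain ⟨L, hL, f, z, hz, hscal, -, hdet1, hsing, -, -⟩ := exists_regular (ZMod p)
  simp only [ZMod.card] at hz hscal hdet1 hsing
  let X₂ : SL₂ := ⟨f (z ^ (p - 1)), hdet1⟩
  have hX₂ : (X₂ : Mat₂) = f (z ^ (p - 1)) := rfl
  have hfac : p ^ 2 - 1 = (p + 1) * (p - 1) := by rw [← Nat.sq_sub_sq, one_pow]
  have hlow : ∀ j, z ^ ((p - 1) * j * (p - 1)) = 1 → p + 1 ∣ (p - 1) * j := fun j h => by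
    have := orderOf_dvd_of_pow_eq_one h
    rw [hz, hfac] at this
    exact Nat.dvd_of_mul_dvd_mul_right (by omega) this
  have hns : ¬ IsSquare (disc (X₂ : Mat₂)) := by
    rintro ⟨r, hr⟩
    have h0 : ((X₂ : Mat₂) - (((X₂ : Mat₂).trace + r) / 2) • 1).det = 0 := by
      have h2 : (2 : ZMod p) ≠ 0 := Ring.two_ne_zero (by rw [ringChar.eq (ZMod p) p]; exact hp2)
      rw [disc, trace_fin_two, det_fin_two] at hr
      rw [trace_fin_two, det_fin_two]
      simp only [Matrix.sub_apply, Matrix.smul_apply, one_apply_eq, smul_eq_mul, mul_one,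
        one_apply_ne (show (0 : Fin 2) ≠ 1 by decide),
        one_apply_ne (show (1 : Fin 2) ≠ 0 by decide), mul_zero, sub_zero]
      field_simp
      linear_combination -hr
    have h1 := hlow 1 (by rw [mul_one]; exact hsing _ _ h0)
    rw [mul_one] at h1
    have := Nat.le_of_dvd (by omega) h1
    omega
  have hord₂ : orderOf (QuotientGroup.mk X₂ : PSL₂) = (p + 1) / 2 := by
    refine Nat.dvd_antisymm ?_ ?_
    · rcases psl_order_cases hp2 X₂ with ⟨h, -⟩ | ⟨-, h, -⟩ | ⟨-, h⟩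
      · exact absurd (h ▸ IsSquare.zero) hns
      · exact absurd h hns
      · exact h
    · obtain ⟨c, hc⟩ := (sl_mk_pow_iff X₂ _).mp (pow_orderOf_eq_one (QuotientGroup.mk X₂ : PSL₂))
      set j := orderOf (QuotientGroup.mk X₂ : PSL₂)
      rw [hX₂, ← map_pow, ← pow_mul] at hc
      have h1 := hlow j (hscal _ ⟨c, hc⟩)
      have h2 : p + 1 ∣ 2 * j := by
        have h3 : (p - 1) * j + 2 * j = (p + 1) * j := by
          rw [← add_mul, show p - 1 + 2 = p + 1 by omega]
        exact (Nat.dvd_add_right h1).mp (h3 ▸ dvd_mul_right _ _)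
      exact (Nat.div_dvd_iff_dvd_mul (show 2 ∣ p + 1 by omega) two_pos).mpr h2
  have hb₂ : (X₂ : Mat₂) 0 1 ≠ 0 := fun h => hns ⟨(X₂ : Mat₂) 0 0 - (X₂ : Mat₂) 1 1, by
    rw [disc, trace_fin_two, det_fin_two, h]; ring⟩
  -- the trace
  set t := (X₂ : Mat₂).trace with htdef
  have ht : ¬ IsSquare (t ^ 2 - 4) := by
    have : t ^ 2 - 4 = disc (X₂ : Mat₂) := by rw [disc, X₂.det_coe, mul_one]
    rw [this]; exact hns
  have ht0 : t ≠ 0 := fun h0 => by
    have h1 : orderOf (QuotientGroup.mk X₂ : PSL₂) ∣ 2 :=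
      orderOf_dvd_of_pow_eq_one ((sl_mk_pow_iff X₂ 2).mpr ⟨-1, by
        rw [sq, sq_eq, ← htdef, h0, zero_smul, X₂.det_coe, one_smul, zero_sub, neg_smul, one_smul]⟩)
    rw [hord₂] at h1
    have := Nat.le_of_dvd (by omega) h1
    omega
  -- the split torus
  obtain ⟨w, hw⟩ := IsCyclic.exists_ofOrder_eq_natCard (α := (ZMod p)ˣ)
  rw [Nat.card_units, Nat.card_eq_fintype_card, ZMod.card] at hw
  let X₁ : SL₂ := ⟨!![(w : ZMod p), 1; 0, ((w⁻¹ : (ZMod p)ˣ) : ZMod p)], by
    rw [det_fin_two_of, mul_zero, sub_zero, Units.mul_inv]⟩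
  have hX₁ : (X₁ : Mat₂) = !![(w : ZMod p), 1; 0, ((w⁻¹ : (ZMod p)ˣ) : ZMod p)] := rfl
  have hpow₁ : ∀ j : ℕ, ∃ y, (X₁ : Mat₂) ^ j =
      !![((w ^ j : (ZMod p)ˣ) : ZMod p), y; 0, ((w⁻¹ ^ j : (ZMod p)ˣ) : ZMod p)] := by
    intro j
    induction j with
    | zero => exact ⟨0, by simp [one_fin_two]⟩
    | succ j ih =>
      obtain ⟨y, hy⟩ := ih
      refine ⟨((w ^ j : (ZMod p)ˣ) : ZMod p) + y * ((w⁻¹ : (ZMod p)ˣ) : ZMod p), ?_⟩
      rw [pow_succ, hy, hX₁]
      ext i l
      fin_cases i <;> fin_cases l <;>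
        simp only [mul_apply, Fin.sum_univ_two, pow_succ, Units.val_mul, of_apply, cons_val', cons_val_zero,
          cons_val_one, cons_val_fin_one, Fin.zero_eta, Fin.mk_one, mul_zero, zero_mul, mul_one, add_zero,
          zero_add]
  have hlow₁ : ∀ j, (QuotientGroup.mk X₁ : PSL₂) ^ j = 1 → p - 1 ∣ 2 * j := fun j h => by
    obtain ⟨c, hc⟩ := (sl_mk_pow_iff X₁ j).mp h
    obtain ⟨y, hy⟩ := hpow₁ j
    rw [hy] at hc
    have h0 := congrFun (congrFun hc 0) 0
    have h1 := congrFun (congrFun hc 1) 1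
    simp only [of_apply, cons_val', cons_val_zero, cons_val_one, cons_val_fin_one, Matrix.smul_apply,
      one_apply_eq, smul_eq_mul, mul_one] at h0 h1
    rw [← hw]
    refine orderOf_dvd_of_pow_eq_one ?_
    have : w ^ j = w⁻¹ ^ j := Units.ext (h0.trans h1.symm)
    rw [two_mul, pow_add]
    nth_rw 2 [this]
    rw [← mul_pow, mul_inv_cancel, one_pow]
  have hw₁ : (w : ZMod p) ≠ ((w⁻¹ : (ZMod p)ˣ) : ZMod p) := fun h => by
    have h1 : w ^ 2 = 1 := by
      rw [sq]; nth_rw 2 [Units.ext h]; exact mul_inv_cancel w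
    have := Nat.le_of_dvd (by omega) (hw ▸ orderOf_dvd_of_pow_eq_one h1)
    omega
  have hD₁ : disc (X₁ : Mat₂) = ((w : ZMod p) - ((w⁻¹ : (ZMod p)ˣ) : ZMod p)) ^ 2 := by
    rw [disc, hX₁, trace_fin_two_of, det_fin_two_of]; ring
  have hD₁0 : disc (X₁ : Mat₂) ≠ 0 := by
    rw [hD₁]; exact pow_ne_zero _ (sub_ne_zero.mpr hw₁)
  have hord₁ : orderOf (QuotientGroup.mk X₁ : PSL₂) = (p - 1) / 2 := by
    refine Nat.dvd_antisymm ?_ ?_
    · rcases psl_order_cases hp2 X₁ with ⟨h, -⟩ | ⟨-, -, h⟩ | ⟨h, -⟩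
      · exact absurd h hD₁0
      · exact h
      · exact absurd (hD₁ ▸ IsSquare.sq _) h
    · exact (Nat.div_dvd_iff_dvd_mul (show 2 ∣ p - 1 by omega) two_pos).mpr
        (hlow₁ _ (pow_orderOf_eq_one _))
  -- an element of order `p`
  let U : SL₂ := ⟨!![1, 1; 0, 1], by rw [det_fin_two_of]; ring⟩
  have hU : orderOf (QuotientGroup.mk U : PSL₂) = p := by
    have hUd : disc (U : Mat₂) = 0 := by
      show disc (!![1, 1; 0, 1] : Mat₂) = 0
      rw [disc, trace_fin_two_of, det_fin_two_of]; ring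
    rcases psl_order_cases hp2 U with ⟨-, h⟩ | ⟨h, -⟩ | ⟨h, -⟩
    · refine ((Nat.dvd_prime hp).mp h).resolve_left fun h1 => ?_
      obtain ⟨c, hc⟩ := (sl_mk_pow_iff U 1).mp (by rw [pow_one]; exact orderOf_eq_one_iff.mp h1)
      rw [pow_one] at hc
      change (!![1, 1; 0, 1] : Mat₂) = c • 1 at hc
      simpa using congrFun (congrFun hc 0) 1
    · exact absurd hUd h
    · exact absurd (hUd ▸ IsSquare.zero) h
  obtain ⟨H, hG, hFt, hcard, hrange⟩ := cover_spectrum (G := PSL₂) (m₁ := (p - 1) / 2)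
    (m₂ := (p + 1) / 2) hp N
    (fun g => by
      obtain ⟨A, rfl⟩ := QuotientGroup.mk_surjective g
      rcases psl_order_cases hp2 A with ⟨-, h⟩ | ⟨-, -, h⟩ | ⟨-, h⟩
      · rcases (Nat.dvd_prime hp).mp h with h | h
        · exact Or.inr (Or.inl (by rw [h]; exact one_dvd _))
        · exact Or.inl h
      · exact Or.inr (Or.inl h)
      · exact Or.inr (Or.inr h))
    _ hU (traceInd t) (traceInd_cusp hp2 ht0 ht)
    (fun m hm => by
      rcases hm with rfl | rfl
      · exact exists_coset hp2 ht0 X₁ (by rw [hX₁]; exact one_ne_zero) hD₁0 hord₁ (hcop _ (by omega) (by omega))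
      · exact exists_coset hp2 ht0 X₂ hb₂ (fun h => hns (h ▸ IsSquare.zero)) hord₂
          (hcop _ (by omega) (by omega)))
  refine ⟨H, hG, hFt, lt_of_lt_of_le N.lt_two_pow_self hcard, ?_⟩
  rw [hrange, show 2 * ((p - 1) / 2) = p - 1 by omega, show 2 * ((p + 1) / 2) = p + 1 by omega]

end CfsgLib.PGLSpectrum
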