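import Mathlib
import Cfsg.Agent.PGLSpectrum.Cover

/-!
# Large groups with the element orders of `PGL (2, q)`, `q = 2, 3, 9`

`W ^ N ⋊ C` with `C` acting on `W` so that every nontrivial element has `g - 1` invertible.
-/

set_option autoImplicit false

open Matrix Finset

namespace CfsgLib.PGLSpectrum

variable {n : Type} [Fintype n] [DecidableEq n] {e : ℕ}

/-- The action of a group of matrices on `N`-tuples of vectors. -/
def matAct (C : Subgroup (Matrix n n (ZMod e))ˣ) (N : ℕ) :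
    C →* MulAut (Multiplicative (Fin N → n → ZMod e)) where
  toFun g := AddEquiv.toMultiplicative
    { toFun := fun v i => (g : (Matrix n n (ZMod e))ˣ).val *ᵥ v i
      invFun := fun v i => ((g⁻¹ : C) : (Matrix n n (ZMod e))ˣ).val *ᵥ v i
      left_inv := fun v => funext fun i => by
        show ((g⁻¹ : C) : (Matrix n n (ZMod e))ˣ).val *ᵥ ((g : (Matrix n n (ZMod e))ˣ).val *ᵥ v i) = v i
        rw [mulVec_mulVec, ← Units.val_mul, ← Subgroup.coe_mul, inv_mul_cancel]
        exact one_mulVec _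
      right_inv := fun v => funext fun i => by
        show (g : (Matrix n n (ZMod e))ˣ).val *ᵥ (((g⁻¹ : C) : (Matrix n n (ZMod e))ˣ).val *ᵥ v i) = v i
        rw [mulVec_mulVec, ← Units.val_mul, ← Subgroup.coe_mul, mul_inv_cancel]
        exact one_mulVec _
      map_add' := fun v w => funext fun i => mulVec_add _ _ _ }
  map_one' := by
    refine MulEquiv.ext fun f => ?_
    exact Multiplicative.toAdd.injective (funext fun i => one_mulVec _)
  map_mul' g h := by
    refine MulEquiv.ext fun f => ?_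
    exact Multiplicative.toAdd.injective (funext fun i => (mulVec_mulVec _ _ _).symm)

/-- The spectrum of a fixed-point-free extension. -/
theorem fpf_spectrum [Nonempty n] [NeZero e] (he : 1 < e) (C : Subgroup (Matrix n n (ZMod e))ˣ)
    (hfpf : ∀ g : C, g ≠ 1 → IsUnit ((g : (Matrix n n (ZMod e))ˣ).val - 1).det) (N : ℕ) :
    ∃ (H : Type) (_ : Group H) (_ : Fintype H), N < Fintype.card H ∧
      Set.range (orderOf : H → ℕ) = {s | s ∣ e} ∪ Set.range (orderOf : C → ℕ) := by
  classical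
  let V := Multiplicative (Fin (N + 1) → n → ZMod e)
  let H := V ⋊[matAct C (N + 1)] C
  haveI : Finite H := Finite.of_equiv (V × C) SemidirectProduct.equivProd.symm
  letI : Fintype H := Fintype.ofFinite H
  have hleft : ∀ (x : H) k i, (x ^ k).left.toAdd i =
      ∑ j ∈ range k, ((x.right ^ j : C) : (Matrix n n (ZMod e))ˣ).val *ᵥ x.left.toAdd i := by
    intro x k i
    rw [(semidirect_pow_left (matAct C (N + 1)) x k).1, toAdd_prod, Finset.sum_apply]
    rfl
  have hone : ∀ x : H, x.right = 1 → (∀ i, x.left.toAdd i = 0) → x = 1 := fun x hr hl =>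
    SemidirectProduct.ext (Multiplicative.toAdd.injective (funext hl)) hr
  refine ⟨H, inferInstance, inferInstance, ?_, ?_⟩
  · let ι : (Fin (N + 1) → ZMod e) → H := fun c => ⟨Multiplicative.ofAdd fun i _ => c i, 1⟩
    have hι : Function.Injective ι := fun c d h => funext fun i =>
      congrArg (fun y : H => y.left.toAdd i (Classical.arbitrary n)) h
    have := Fintype.card_le_of_injective ι hι
    rw [Fintype.card_fun, ZMod.card, Fintype.card_fin] at this
    exact lt_of_lt_of_le ((Nat.lt_succ_self N).trans (Nat.lt_pow_self he)) this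
  ext s
  simp only [Set.mem_union, Set.mem_ofPred_eq, Set.mem_range]
  constructor
  · rintro ⟨h, rfl⟩
    rcases eq_or_ne h.right 1 with hr | hr
    · refine Or.inl (orderOf_dvd_of_pow_eq_one (hone _ ?_ fun i => ?_))
      · rw [(semidirect_pow_left _ h _).2, hr, one_pow]
      · rw [hleft, hr]
        simp only [one_pow, OneMemClass.coe_one, Units.val_one, one_mulVec, sum_const, card_range]
        exact funext fun j => by rw [Pi.smul_apply, nsmul_eq_mul, ZMod.natCast_self, zero_mul]; rfl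
    · refine Or.inr ⟨h.right, Nat.dvd_antisymm
        (orderOf_map_dvd SemidirectProduct.rightHom h) (orderOf_dvd_of_pow_eq_one (hone _ ?_ fun i => ?_))⟩
      · rw [(semidirect_pow_left _ h _).2, pow_orderOf_eq_one]
      · set g := (h.right : (Matrix n n (ZMod e))ˣ).val with hg
        have hgeom : ∑ j ∈ range (orderOf h.right), g ^ j = 0 := by
          have h1 : (∑ j ∈ range (orderOf h.right), g ^ j) * (g - 1) = 0 := by
            rw [geom_sum_mul, hg, ← Units.val_pow_eq_pow_val, ← Subgroup.coe_pow, pow_orderOf_eq_one,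
              OneMemClass.coe_one, Units.val_one, sub_self]
          exact ((Matrix.isUnit_iff_isUnit_det _).mpr (hfpf _ hr)).mul_left_eq_zero.mp h1
        rw [hleft]
        simp only [Subgroup.coe_pow, Units.val_pow_eq_pow_val, ← hg]
        rw [← Matrix.sum_mulVec, hgeom, zero_mulVec]
  · rintro (hs | ⟨g, rfl⟩)
    · let x : H := ⟨Multiplicative.ofAdd fun _ _ => (1 : ZMod e), 1⟩
      refine ⟨x ^ (orderOf x / s), orderOf_pow_orderOf_div (orderOf_pos x).ne' (hs.trans ?_)⟩
      have h1 := congrArg (fun y : H => y.left.toAdd 0 (Classical.arbitrary n))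
        (pow_orderOf_eq_one x)
      simp only [hleft] at h1
      have h2 : ((orderOf x : ℕ) : ZMod e) = 0 := by simpa [x, one_mulVec] using h1
      exact (ZMod.natCast_eq_zero_iff _ _).mp h2
    · exact ⟨SemidirectProduct.inr g, orderOf_injective _ SemidirectProduct.inr_injective g⟩

theorem exists_large_two (N : ℕ) :
    ∃ (H : Type) (_ : Group H) (_ : Fintype H), N < Fintype.card H ∧
      Set.range (orderOf : H → ℕ) = {s | s ∣ 2 ∨ s ∣ 2 - 1 ∨ s ∣ 2 + 1} := by
  let g : (Matrix (Fin 1) (Fin 1) (ZMod 3))ˣ := ⟨!![2], !![2], by decide, by decide⟩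
  have hg : g ^ 2 = 1 := Units.ext (by decide)
  have hg1 : g ≠ 1 := fun h => absurd (congrArg Units.val h) (by decide)
  have hord : orderOf g = 2 := orderOf_eq_prime hg hg1
  obtain ⟨H, a, b, hc, hr⟩ := fpf_spectrum (by norm_num) (Subgroup.zpowers g) (by
    rintro ⟨x, hx⟩ h1
    have hx' := hx
    rw [← mem_powers_iff_mem_zpowers, Submonoid.mem_powers_iff] at hx'
    obtain ⟨k, rfl⟩ := hx'
    have hk := Nat.mod_add_div k 2
    have : g ^ k = g ^ (k % 2) := by rw [← hord, pow_mod_orderOf]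
    rcases Nat.mod_two_eq_zero_or_one k with h | h
    · exact absurd (Subtype.ext (this.trans (by rw [h, pow_zero]; rfl))) h1
    · show IsUnit ((g ^ k).val - 1).det
      rw [this, h, pow_one]
      decide) N
  refine ⟨H, a, b, hc, ?_⟩
  rw [hr]
  ext s
  simp only [Set.mem_union, Set.mem_ofPred_eq, Set.mem_range]
  constructor
  · rintro (h | ⟨x, rfl⟩)
    · exact Or.inr (Or.inr h)
    · refine Or.inl ?_
      have := orderOf_dvd_natCard x
      rwa [Nat.card_zpowers, hord] at this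
  · rintro (h | h | h)
    · rcases (Nat.dvd_prime Nat.prime_two).mp h with rfl | rfl
      · exact Or.inl (one_dvd _)
      · exact Or.inr ⟨⟨g, Subgroup.mem_zpowers g⟩, (Subgroup.orderOf_mk g _).trans hord⟩
    · rw [Nat.dvd_one.mp h]; exact Or.inl (one_dvd _)
    · exact Or.inl h

theorem exists_large_three (N : ℕ) :
    ∃ (H : Type) (_ : Group H) (_ : Fintype H), N < Fintype.card H ∧
      Set.range (orderOf : H → ℕ) = {s | s ∣ 3 ∨ s ∣ 3 - 1 ∨ s ∣ 3 + 1} := by
  let g : (Matrix (Fin 2) (Fin 2) (ZMod 4))ˣ :=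
    ⟨!![0, 3; 1, 3], !![3, 1; 3, 0], by decide, by decide⟩
  have hg : g ^ 3 = 1 := Units.ext (by decide)
  have hg1 : g ≠ 1 := fun h => absurd (congrArg Units.val h) (by decide)
  haveI : Fact (Nat.Prime 3) := ⟨by norm_num⟩
  have hord : orderOf g = 3 := orderOf_eq_prime hg hg1
  obtain ⟨H, a, b, hc, hr⟩ := fpf_spectrum (by norm_num) (Subgroup.zpowers g) (by
    rintro ⟨x, hx⟩ h1
    have hx' := hx
    rw [← mem_powers_iff_mem_zpowers, Submonoid.mem_powers_iff] at hx'
    obtain ⟨k, rfl⟩ := hx'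
    have : g ^ k = g ^ (k % 3) := by rw [← hord, pow_mod_orderOf]
    have h3 : k % 3 = 0 ∨ k % 3 = 1 ∨ k % 3 = 2 := by omega
    show IsUnit ((g ^ k).val - 1).det
    rcases h3 with h | h | h
    · exact absurd (Subtype.ext (this.trans (by rw [h, pow_zero]; rfl))) h1
    · rw [this, h, pow_one]
      exact IsUnit.of_mul_eq_one 3 (by decide)
    · rw [this, h, Units.val_pow_eq_pow_val]
      exact IsUnit.of_mul_eq_one 3 (by decide)) N
  refine ⟨H, a, b, hc, ?_⟩
  rw [hr]
  ext s
  simp only [Set.mem_union, Set.mem_ofPred_eq, Set.mem_range]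
  constructor
  · rintro (h | ⟨x, rfl⟩)
    · exact Or.inr (Or.inr h)
    · refine Or.inl ?_
      have := orderOf_dvd_natCard x
      rwa [Nat.card_zpowers, hord] at this
  · rintro (h | h | h)
    · rcases (Nat.dvd_prime Fact.out).mp h with rfl | rfl
      · exact Or.inl (one_dvd _)
      · exact Or.inr ⟨⟨g, Subgroup.mem_zpowers g⟩, (Subgroup.orderOf_mk g _).trans hord⟩
    · exact Or.inl (h.trans (by norm_num))
    · exact Or.inl h

/-- `5 ⋊ 8` inside `GL (4, 3)`, generated by `a` and `c` with `c a = a ^ 3 c`. -/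
theorem exists_large_nine (N : ℕ) :
    ∃ (H : Type) (_ : Group H) (_ : Fintype H), N < Fintype.card H ∧
      Set.range (orderOf : H → ℕ) = {s | s ∣ 3 ∨ s ∣ 9 - 1 ∨ s ∣ 9 + 1} := by
  classical
  let a : (Matrix (Fin 4) (Fin 4) (ZMod 3))ˣ :=
    ⟨!![0, 0, 0, 2; 1, 0, 0, 2; 0, 1, 0, 2; 0, 0, 1, 2], !![2, 1, 0, 0; 2, 0, 1, 0; 2, 0, 0, 1; 2, 0, 0, 0],
      by decide, by decide⟩
  let c : (Matrix (Fin 4) (Fin 4) (ZMod 3))ˣ :=
    ⟨!![0, 1, 1, 0; 0, 2, 1, 1; 1, 0, 1, 2; 2, 0, 2, 0], !![1, 1, 1, 0; 2, 1, 1, 1; 2, 2, 2, 2; 0, 0, 2, 2],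
      by decide, by decide⟩
  have ha : a ^ 5 = 1 := Units.ext (by decide +kernel)
  have hcc : c ^ 8 = 1 := Units.ext (by decide +kernel)
  have hca : c * a = a ^ 3 * c := Units.ext (by decide +kernel)
  have hcapow : ∀ i j : ℕ, c ^ j * a ^ i = a ^ (i * 3 ^ j) * c ^ j := by
    intro i j
    induction j with
    | zero => simp
    | succ j ih =>
      have h1 : ∀ m : ℕ, c * a ^ m = a ^ (3 * m) * c := fun m => by
        rw [pow_mul]
        exact (show SemiconjBy c a (a ^ 3) from hca).pow_right m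
      rw [pow_succ', mul_assoc, ih, ← mul_assoc, h1, mul_assoc, pow_succ' 3 j]
      congr 2
      ring
  have hmod : ∀ (u : (Matrix (Fin 4) (Fin 4) (ZMod 3))ˣ) (d k : ℕ), u ^ d = 1 → u ^ k = u ^ (k % d) :=
    fun u d k h => by
      conv_lhs => rw [← Nat.mod_add_div k d, pow_add, pow_mul, h, one_pow, mul_one]
  let S : Set (Matrix (Fin 4) (Fin 4) (ZMod 3))ˣ := {x | ∃ i j : ℕ, x = a ^ i * c ^ j}
  have hmul : ∀ {x y}, x ∈ S → y ∈ S → x * y ∈ S := by
    rintro _ _ ⟨i, j, rfl⟩ ⟨i', j', rfl⟩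
    refine ⟨i + i' * 3 ^ j, j + j', ?_⟩
    rw [mul_assoc, ← mul_assoc (c ^ j), hcapow, pow_add, pow_add]
    simp only [mul_assoc]
  have hone : (1 : (Matrix (Fin 4) (Fin 4) (ZMod 3))ˣ) ∈ S := ⟨0, 0, by simp⟩
  let C : Subgroup (Matrix (Fin 4) (Fin 4) (ZMod 3))ˣ :=
    { carrier := S
      mul_mem' := hmul
      one_mem' := hone
      inv_mem' := fun {x} hx => by
        haveI : Finite (Matrix (Fin 4) (Fin 4) (ZMod 3))ˣ := inferInstance
        have h : ∀ k : ℕ, x ^ k ∈ S := fun k => by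
          induction k with
          | zero => rw [pow_zero]; exact hone
          | succ k ih => rw [pow_succ]; exact hmul ih hx
        have : x⁻¹ = x ^ (orderOf x - 1) := by
          rw [inv_eq_iff_mul_eq_one, ← pow_succ', Nat.sub_add_cancel (orderOf_pos x), pow_orderOf_eq_one]
        exact this ▸ h _ }
  have hsmall : ∀ g : C, ∃ i j, i < 5 ∧ j < 8 ∧ (g : (Matrix (Fin 4) (Fin 4) (ZMod 3))ˣ).val =
      a.val ^ i * c.val ^ j := fun g => by
    obtain ⟨i, j, h⟩ := g.2
    exact ⟨i % 5, j % 8, Nat.mod_lt _ (by norm_num), Nat.mod_lt _ (by norm_num), by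
      rw [h, hmod a 5 i ha, hmod c 8 j hcc, Units.val_mul, Units.val_pow_eq_pow_val,
        Units.val_pow_eq_pow_val]⟩
  have htable : ∀ i : Fin 5, ∀ j : Fin 8,
      ((i : ℕ) = 0 ∧ (j : ℕ) = 0) ∨ (((a.val ^ (i : ℕ) * c.val ^ (j : ℕ)) - 1).det ≠ 0 ∧
        ((a.val ^ (i : ℕ) * c.val ^ (j : ℕ)) ^ 8 = 1 ∨
          (a.val ^ (i : ℕ) * c.val ^ (j : ℕ)) ^ 10 = 1)) := by
    decide +kernel
  have hc4 : c.val ^ (2 ^ 2) ≠ 1 := by decide +kernel
  have hac10 : ∀ k : Fin 10, ((k : ℕ) + 1 = 10) = ((a.val * c.val ^ 4) ^ ((k : ℕ) + 1) = 1) := by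
    intro k
    refine propext ?_
    revert k
    decide +kernel
  haveI : Fact (Nat.Prime 3) := ⟨by norm_num⟩
  obtain ⟨H, x, y, hc, hr⟩ := fpf_spectrum (by norm_num) C (fun g hg => by
    obtain ⟨i, j, hi, hj, h⟩ := hsmall g
    rw [h]
    rcases htable ⟨i, hi⟩ ⟨j, hj⟩ with ⟨h0, h0'⟩ | ⟨h1, -⟩
    · simp only at h0 h0'
      exact absurd (Subtype.ext (Units.ext (by rw [h, h0, h0', pow_zero, pow_zero, mul_one]; rfl))) hg
    · exact isUnit_iff_ne_zero.mpr h1) N
  refine ⟨H, x, y, hc, ?_⟩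
  rw [hr]
  ext s
  simp only [Set.mem_union, Set.mem_ofPred_eq, Set.mem_range]
  constructor
  · rintro (h | ⟨g, rfl⟩)
    · exact Or.inl h
    · obtain ⟨i, j, hi, hj, h⟩ := hsmall g
      have hp : ∀ k : ℕ, (a.val ^ i * c.val ^ j) ^ k = 1 → orderOf g ∣ k := fun k hk =>
        orderOf_dvd_of_pow_eq_one (Subtype.ext (Units.ext (by
          rw [Subgroup.coe_pow, Units.val_pow_eq_pow_val, h, hk]; rfl)))
      rcases htable ⟨i, hi⟩ ⟨j, hj⟩ with ⟨h0, h0'⟩ | ⟨-, h8 | h10⟩
      · simp only at h0 h0'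
        refine Or.inr (Or.inl (hp _ ?_))
        rw [h0, h0', pow_zero, pow_zero, mul_one, one_pow]
      · exact Or.inr (Or.inl (hp _ h8))
      · exact Or.inr (Or.inr (hp _ h10))
  · have key : ∀ (u : (Matrix (Fin 4) (Fin 4) (ZMod 3))ˣ) (m : ℕ), u ∈ S → orderOf u = m → s ∣ m →
        ∃ y : C, orderOf y = s := fun u m hu hm hs =>
      ⟨⟨u, hu⟩ ^ (m / s), by
        have h1 : orderOf (⟨u, hu⟩ : C) = m := (Subgroup.orderOf_coe (⟨u, hu⟩ : C)).symm.trans hm
        rw [← h1] at hs ⊢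
        exact orderOf_pow_orderOf_div (orderOf_pos _).ne' hs⟩
    rintro (h | h | h)
    · exact Or.inl h
    · refine Or.inr (key c 8 ⟨0, 1, by simp⟩ ?_ h)
      exact orderOf_eq_prime_pow (p := 2) (n := 2)
        (fun h4 => hc4 (by rw [← Units.val_pow_eq_pow_val, h4, Units.val_one])) hcc
    · refine Or.inr (key (a * c ^ 4) 10 ⟨1, 4, by rw [pow_one]⟩ ?_ h)
      rw [orderOf_eq_iff (by norm_num)]
      refine ⟨Units.ext ?_, fun k hk hk0 h' => ?_⟩
      · rw [Units.val_pow_eq_pow_val, Units.val_mul, Units.val_pow_eq_pow_val, Units.val_one]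
        exact (hac10 ⟨9, by norm_num⟩).mp rfl
      · have h1 : (a.val * c.val ^ 4) ^ ((k - 1) + 1) = 1 := by
          rw [Nat.sub_add_cancel hk0, ← Units.val_pow_eq_pow_val, ← Units.val_mul,
            ← Units.val_pow_eq_pow_val, h', Units.val_one]
        have := (hac10 ⟨k - 1, by omega⟩).mpr h1
        simp only at this
        omega

end CfsgLib.PGLSpectrum
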